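import Mathlib.RingTheory.Flat.Basic
import Mathlib.RingTheory.Flat.Stability
import Mathlib.RingTheory.Filtration
import Mathlib.LinearAlgebra.TensorProduct.Quotient
import Mathlib.RingTheory.TensorProduct.Finite
import Mathlib.RingTheory.Flat.Localization
import Mathlib.RingTheory.Localization.Away.Basic
import Mathlib.RingTheory.Localization.BaseChange
import Mathlib.RingTheory.LocalRing.Module
import Mathlib.Algebra.Module.Torsion.Basic

/-!
# Local criteria of flatness without Tor

`TorVanish R M N` says that `Tor₁ N M = 0`, phrased through short exact sequences ending in `N`.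
`QuotFlat R M I` says that `A ⊗ M → B ⊗ M` is injective for injective maps of modules killed by `I`,
which is flatness of `M/IM` over `R/I`.
-/

universe u

namespace Groth.Agent.FlatCrit

open TensorProduct Function

variable (R : Type u) [CommRing R] (M : Type u) [AddCommGroup M] [Module R M]

/-- `Tor₁ N M = 0`. -/
def TorVanish (N : Type u) [AddCommGroup N] [Module R N] : Prop :=
  ∀ ⦃A B : Type u⦄ [AddCommGroup A] [AddCommGroup B] [Module R A] [Module R B]
    (i : A →ₗ[R] B) (p : B →ₗ[R] N),
    Exact i p → Surjective p → Injective i → Injective (i.rTensor M)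

/-- `M/IM` is flat over `R/I`. -/
def QuotFlat (I : Ideal R) : Prop :=
  ∀ ⦃A B : Type u⦄ [AddCommGroup A] [AddCommGroup B] [Module R A] [Module R B]
    (i : A →ₗ[R] B), (∀ r ∈ I, ∀ b : B, r • b = 0) → Injective i → Injective (i.rTensor M)

variable {R M}

theorem torVanish_of_projective {N : Type u} [AddCommGroup N] [Module R N] [Module.Projective R N] :
    TorVanish R M N := by
  intro A B _ _ _ _ i p hex hp hi
  obtain ⟨s, hs⟩ := Module.projective_lifting_property p LinearMap.id hp
  have := (Exact.split_tfae hex hi hp).out 0 1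
  obtain ⟨l, hl⟩ := this.mp ⟨s, hs⟩
  refine HasLeftInverse.injective ⟨l.rTensor M, fun x => ?_⟩
  rw [← LinearMap.comp_apply, ← LinearMap.rTensor_comp, hl, LinearMap.rTensor_id, LinearMap.id_apply]

theorem TorVanish.of_presentation {K F N : Type u} [AddCommGroup K] [AddCommGroup F] [AddCommGroup N]
    [Module R K] [Module R F] [Module R N] (f : K →ₗ[R] F) (g : F →ₗ[R] N)
    (hex : Exact f g) (hg : Surjective g) (hF : TorVanish R M F) (hf : Injective (f.rTensor M)) :
    TorVanish R M N := by
  intro A B _ _ _ _ i p hip hp hi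
  -- the fibre product
  let C : Submodule R (B × F) := LinearMap.eqLocus (p ∘ₗ LinearMap.fst R B F) (g ∘ₗ LinearMap.snd R B F)
  let prB : C →ₗ[R] B := LinearMap.fst R B F ∘ₗ C.subtype
  let prF : C →ₗ[R] F := LinearMap.snd R B F ∘ₗ C.subtype
  let jA : A →ₗ[R] C := (LinearMap.inl R B F ∘ₗ i).codRestrict C
    (fun a => by simp [C, hip.apply_apply_eq_zero a])
  let jK : K →ₗ[R] C := (LinearMap.inr R B F ∘ₗ f).codRestrict C
    (fun k => by simp [C, hex.apply_apply_eq_zero k])
  have hjA : Injective (jA.rTensor M) := by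
    refine hF jA prF ?_ ?_ ?_
    · rw [LinearMap.exact_iff]
      ext ⟨⟨b, x⟩, hbx⟩
      constructor
      · intro h
        have h' : x = 0 := h
        have hb : p b = 0 := by
          have : p b = g x := hbx
          simpa [h'] using this
        obtain ⟨a, rfl⟩ := (hip b).mp hb
        exact ⟨a, Subtype.ext (Prod.ext rfl h'.symm)⟩
      · rintro ⟨a, ha⟩
        rw [← ha]
        rfl
    · intro x
      obtain ⟨b, hb⟩ := hp (g x)
      exact ⟨⟨(b, x), hb⟩, rfl⟩
    · intro a a' h
      exact hi (congrArg Prod.fst (congrArg Subtype.val h))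
  have hCB : Exact jK prB := by
    rw [LinearMap.exact_iff]
    ext ⟨⟨b, x⟩, hbx⟩
    constructor
    · intro h
      have h' : b = 0 := h
      have hb : g x = 0 := by
        have : p b = g x := hbx
        simpa [h'] using this.symm
      obtain ⟨k, rfl⟩ := (hex x).mp hb
      exact ⟨k, Subtype.ext (Prod.ext h'.symm rfl)⟩
    · rintro ⟨k, hk⟩
      rw [← hk]
      rfl
  have hprB : Surjective prB := fun b => by
    obtain ⟨x, hx⟩ := hg (p b)
    exact ⟨⟨(b, x), hx.symm⟩, rfl⟩
  rw [injective_iff_map_eq_zero]
  intro a ha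
  have hi' : prB ∘ₗ jA = i := rfl
  have h0 : prB.rTensor M (jA.rTensor M a) = 0 := by
    rw [← LinearMap.comp_apply, ← LinearMap.rTensor_comp, hi', ha]
  obtain ⟨k, hk⟩ := (rTensor_exact M hCB hprB _).mp h0
  have hk0 : f.rTensor M k = 0 := by
    have e1 : prF ∘ₗ jK = f := rfl
    have e2 : prF ∘ₗ jA = 0 := rfl
    rw [← e1, LinearMap.rTensor_comp, LinearMap.comp_apply, hk, ← LinearMap.comp_apply,
      ← LinearMap.rTensor_comp, e2, LinearMap.rTensor_zero, LinearMap.zero_apply]
  have hk' : k = 0 := (injective_iff_map_eq_zero _).mp hf k hk0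
  apply (injective_iff_map_eq_zero _).mp hjA
  rw [← hk, hk', map_zero]

theorem TorVanish.extension {N : Type u} [AddCommGroup N] [Module R N] (N' : Submodule R N)
    (h' : TorVanish R M N') (h'' : TorVanish R M (N ⧸ N')) : TorVanish R M N := by
  intro A B _ _ _ _ i p hip hp hi
  let B' := N'.comap p
  let i' : A →ₗ[R] B' := i.codRestrict B' (fun a => by simp [B', hip.apply_apply_eq_zero a])
  let p' : B' →ₗ[R] N' := (p ∘ₗ B'.subtype).codRestrict N' (fun b => b.2)
  have h1 : Injective (i'.rTensor M) := by
    refine h' i' p' ?_ ?_ ?_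
    · rw [LinearMap.exact_iff]
      ext ⟨b, hb⟩
      constructor
      · intro h
        obtain ⟨a, rfl⟩ := (hip b).mp (congrArg Subtype.val h)
        exact ⟨a, rfl⟩
      · rintro ⟨a, ha⟩
        rw [← ha]
        exact Subtype.ext (hip.apply_apply_eq_zero a)
    · rintro ⟨n, hn⟩
      obtain ⟨b, rfl⟩ := hp n
      exact ⟨⟨b, hn⟩, rfl⟩
    · intro a a' h
      exact hi (congrArg Subtype.val h)
  have h2 : Injective (B'.subtype.rTensor M) := by
    refine h'' B'.subtype (N'.mkQ ∘ₗ p) ?_ ((Submodule.mkQ_surjective N').comp hp) Subtype.val_injective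
    rw [LinearMap.exact_iff, LinearMap.ker_comp, Submodule.ker_mkQ, Submodule.range_subtype]
  have : i = B'.subtype ∘ₗ i' := rfl
  rw [this, LinearMap.rTensor_comp]
  exact h2.comp h1

theorem TorVanish.of_linearEquiv {N N' : Type u} [AddCommGroup N] [AddCommGroup N'] [Module R N]
    [Module R N'] (h : TorVanish R M N) (e : N ≃ₗ[R] N') : TorVanish R M N' :=
  fun A B _ _ _ _ i p hip hp hi => h i (e.symm.toLinearMap ∘ₗ p)
    (fun b => by simp [← hip b]) (e.symm.surjective.comp hp) hi

/-- Transfer between `A ⊗_R M` and `A ⊗_{R/I} (M/IM)`. -/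
theorem quotFlat_of_flat (I : Ideal R) (h : Module.Flat (R ⧸ I) ((R ⧸ I) ⊗[R] M)) :
    QuotFlat R M I := by
  intro A B _ _ _ _ i hB hi
  have hA : ∀ r ∈ I, ∀ a : A, r • a = 0 := fun r hr a => hi (by rw [map_smul, map_zero, hB r hr])
  have tA : Module.IsTorsionBySet R A I := fun a r => hA r r.2 a
  have tB : Module.IsTorsionBySet R B I := fun a r => hB r r.2 a
  letI := tA.module
  letI := tB.module
  haveI : IsScalarTower R (R ⧸ I) A := tA.isScalarTower
  haveI : IsScalarTower R (R ⧸ I) B := tB.isScalarTower
  let i' : A →ₗ[R ⧸ I] B :=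
    { i with
      map_smul' := fun c a => by
        obtain ⟨c, rfl⟩ := Ideal.Quotient.mk_surjective c
        exact map_smul i c a }
  let eA := AlgebraTensorModule.cancelBaseChange R (R ⧸ I) (R ⧸ I) A M
  let eB := AlgebraTensorModule.cancelBaseChange R (R ⧸ I) (R ⧸ I) B M
  have hcomm : ∀ x, i.rTensor M (eA x) = eB (i'.rTensor _ x) := by
    intro x
    induction x with
    | zero => simp
    | add x y hx hy => simp [hx, hy]
    | tmul a y =>
      induction y with
      | zero => simp
      | add x y hx hy => simp [tmul_add, hx, hy]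
      | tmul c m =>
        simp only [eA, eB, AlgebraTensorModule.cancelBaseChange_tmul, LinearMap.rTensor_tmul]
        rw [← map_smul i']
        rfl
  have hinj : Injective (i'.rTensor ((R ⧸ I) ⊗[R] M)) :=
    Module.Flat.rTensor_preserves_injective_linearMap i' hi
  intro x y hxy
  obtain ⟨x, rfl⟩ := eA.surjective x
  obtain ⟨y, rfl⟩ := eA.surjective y
  rw [hcomm, hcomm] at hxy
  exact congrArg eA (hinj (eB.injective hxy))

theorem quotFlat_of_field (I : Ideal R) [I.IsMaximal] : QuotFlat R M I := by
  letI := Ideal.Quotient.field I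
  exact quotFlat_of_flat I inferInstance

theorem quotFlat_of_module_flat (I : Ideal R) [Module.Flat R M] : QuotFlat R M I :=
  fun _ _ _ _ _ _ i _ hi => Module.Flat.rTensor_preserves_injective_linearMap i hi

section Kill

variable {I : Ideal R} (h1 : Injective (I.subtype.rTensor M)) (h2 : QuotFlat R M I)
include h1 h2

theorem torVanish_quot_tensor {F₀ : Type u} [AddCommGroup F₀] [Module R F₀] [Module.Projective R F₀] :
    TorVanish R M ((R ⧸ I) ⊗[R] F₀) := by
  refine TorVanish.of_presentation (I.subtype.rTensor F₀) ((Submodule.mkQ I).rTensor F₀)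
    (rTensor_exact F₀ (LinearMap.exact_subtype_mkQ I) (Submodule.mkQ_surjective I))
    (LinearMap.rTensor_surjective F₀ (Submodule.mkQ_surjective I)) torVanish_of_projective ?_
  let e₁ := TensorProduct.rightComm R I F₀ M
  let e₂ := TensorProduct.rightComm R R F₀ M
  have hc : ∀ x, e₂ ((I.subtype.rTensor F₀).rTensor M x) = (I.subtype.rTensor M).rTensor F₀ (e₁ x) := by
    intro x
    induction x with
    | zero => simp
    | add x y hx hy => rw [map_add, map_add, map_add, map_add, hx, hy]
    | tmul a m =>
      induction a with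
      | zero => simp
      | add x y hx hy => rw [add_tmul, map_add, map_add, map_add, map_add, hx, hy]
      | tmul c z => simp [e₁, e₂]
  have := Module.Flat.rTensor_preserves_injective_linearMap (M := F₀) _ h1
  intro x y hxy
  apply e₁.injective
  apply this
  rw [← hc, ← hc, hxy]

theorem torVanish_of_killed_aux {N F₀ : Type u} [AddCommGroup N] [Module R N] [AddCommGroup F₀]
    [Module R F₀] [Module.Projective R F₀] (π : F₀ →ₗ[R] N) (hπ : Surjective π)
    (hN : ∀ r ∈ I, ∀ x : N, r • x = 0) : TorVanish R M N := by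
  have hI : I ≤ LinearMap.ker ((LinearMap.lsmul R N).compl₂ π) :=
    fun r hr => LinearMap.ext fun z => hN r hr (π z)
  let g : (R ⧸ I) ⊗[R] F₀ →ₗ[R] N :=
    TensorProduct.lift (Submodule.liftQ I ((LinearMap.lsmul R N).compl₂ π) hI)
  have hg : Surjective g := fun x => by
    obtain ⟨z, rfl⟩ := hπ x
    refine ⟨(Submodule.Quotient.mk (1 : R) : R ⧸ I) ⊗ₜ[R] z, ?_⟩
    simp only [g, lift.tmul, Submodule.liftQ_apply]
    simp
  have hkill : ∀ r ∈ I, ∀ b : (R ⧸ I) ⊗[R] F₀, r • b = 0 := by
    intro r hr b
    induction b with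
    | zero => exact smul_zero r
    | add x y hx hy => rw [smul_add, hx, hy, add_zero]
    | tmul c z =>
      obtain ⟨c, rfl⟩ := Submodule.Quotient.mk_surjective I c
      rw [smul_tmul', ← Submodule.Quotient.mk_smul, smul_eq_mul,
        (Submodule.Quotient.mk_eq_zero I).mpr (I.mul_mem_right c hr), zero_tmul]
  have hF : TorVanish R M ((R ⧸ I) ⊗[R] F₀) := torVanish_quot_tensor h1 h2
  have hi := @h2 (LinearMap.ker g) ((R ⧸ I) ⊗[R] F₀) _ _ _ _ (LinearMap.ker g).subtype hkill
    Subtype.val_injective
  exact @TorVanish.of_presentation R _ M _ _ (LinearMap.ker g) ((R ⧸ I) ⊗[R] F₀) N _ _ _ _ _ _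
    (LinearMap.ker g).subtype g (LinearMap.exact_subtype_ker_map g) hg hF hi

theorem torVanish_of_killed {N : Type u} [AddCommGroup N] [Module R N]
    (hN : ∀ r ∈ I, ∀ x : N, r • x = 0) : TorVanish R M N :=
  torVanish_of_killed_aux h1 h2 (Finsupp.linearCombination R id : (N →₀ R) →ₗ[R] N)
    (fun n => ⟨Finsupp.single n 1, by rw [Finsupp.linearCombination_single, one_smul, id_eq]⟩) hN

theorem torVanish_of_killed_pow (n : ℕ) : ∀ {N : Type u} [AddCommGroup N] [Module R N],
    (∀ r ∈ I ^ n, ∀ x : N, r • x = 0) → TorVanish R M N := by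
  induction n with
  | zero =>
    intro N _ _ hN
    have : Subsingleton N := ⟨fun x y => by
      rw [← one_smul R x, hN 1 (by simp), ← one_smul R y, hN 1 (by simp)]⟩
    exact torVanish_of_projective
  | succ n ih =>
    intro N _ _ hN
    refine TorVanish.extension (I • ⊤) (ih ?_) (torVanish_of_killed h1 h2 ?_)
    · rintro r hr ⟨x, hx⟩
      apply Subtype.ext
      show r • x = 0
      refine Submodule.smul_induction_on hx (fun a ha y _ => ?_) (fun a b ha hb => ?_)
      · rw [smul_smul]
        exact hN _ (by rw [pow_succ]; exact Ideal.mul_mem_mul hr ha) y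
      · rw [smul_add, ha, hb, add_zero]
    · intro r hr x
      obtain ⟨x, rfl⟩ := Submodule.Quotient.mk_surjective _ x
      rw [← Submodule.Quotient.mk_smul, Submodule.Quotient.mk_eq_zero]
      exact Submodule.smul_mem_smul hr trivial

/-- Injective maps with cokernel killed by a power of `I` stay injective. -/
theorem rTensor_injective_of_coker_killed {A B : Type u} [AddCommGroup A] [AddCommGroup B]
    [Module R A] [Module R B] (i : A →ₗ[R] B) (hi : Injective i) (n : ℕ)
    (hk : ∀ r ∈ I ^ n, ∀ b : B, r • b ∈ LinearMap.range i) : Injective (i.rTensor M) := by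
  refine torVanish_of_killed_pow h1 h2 n (N := B ⧸ LinearMap.range i) ?_ i (LinearMap.range i).mkQ
    (LinearMap.exact_map_mkQ_range i) (Submodule.mkQ_surjective _) hi
  intro r hr x
  obtain ⟨x, rfl⟩ := Submodule.Quotient.mk_surjective _ x
  rw [← Submodule.Quotient.mk_smul, Submodule.Quotient.mk_eq_zero]
  exact hk r hr x

theorem quotFlat_pow (n : ℕ) : QuotFlat R M (I ^ n) :=
  fun _ _ _ _ _ _ i hB hi => rTensor_injective_of_coker_killed h1 h2 i hi n
    (fun r hr b => by simp [hB r hr b])

/-- Flatness over `R` when `I` is nilpotent. -/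
theorem flat_of_isNilpotent (hI : IsNilpotent I) : Module.Flat R M := by
  obtain ⟨n, hn⟩ := hI
  rw [Module.Flat.iff_rTensor_preserves_injective_linearMap]
  intro A B _ _ _ _ i hi
  refine rTensor_injective_of_coker_killed h1 h2 i hi n fun r hr b => ?_
  rw [hn] at hr
  simp [(Ideal.mem_bot).mp hr]

end Kill

section Adic

variable {S : Type u} [CommRing S] [Algebra R S] [Module S M] [IsScalarTower R S M]
  [IsNoetherianRing R] [IsNoetherianRing S] [Module.Finite S M]

/-- Flatness of all `M/IⁿM` over `R/Iⁿ` gives flatness when `IS` is in the Jacobson radical. -/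
theorem flat_of_quotFlat_pow (I : Ideal R) (hjac : I.map (algebraMap R S) ≤ Ideal.jacobson ⊥)
    (h : ∀ n, QuotFlat R M (I ^ n)) : Module.Flat R M := by
  rw [Module.Flat.iff_rTensor_injective]
  intro J _hJ
  rw [injective_iff_map_eq_zero]
  intro x hx
  obtain ⟨k, hk⟩ := Ideal.exists_pow_inf_eq_pow_smul I (J : Submodule R R)
  have key : ∀ m : ℕ, x ∈ (I ^ m) • (⊤ : Submodule R (J ⊗[R] M)) := by
    intro m
    let π : J →ₗ[R] R ⧸ I ^ (m + k) := (Submodule.mkQ (I ^ (m + k))) ∘ₗ J.subtype
    have hinj : Injective ((LinearMap.range π).subtype.rTensor M) := by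
      refine h (m + k) _ (fun r hr b => ?_) Subtype.val_injective
      obtain ⟨b, rfl⟩ := Submodule.Quotient.mk_surjective _ b
      rw [← Submodule.Quotient.mk_smul, Submodule.Quotient.mk_eq_zero]
      exact Ideal.mul_mem_right _ _ hr
    have hπ : π.rangeRestrict.rTensor M x = 0 := by
      apply (injective_iff_map_eq_zero _).mp hinj
      rw [← LinearMap.comp_apply, ← LinearMap.rTensor_comp, LinearMap.subtype_comp_codRestrict,
        LinearMap.rTensor_comp, LinearMap.comp_apply, hx, map_zero]
    have hex : Exact (LinearMap.ker π).subtype π.rangeRestrict := by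
      rw [LinearMap.exact_iff, LinearMap.ker_rangeRestrict, Submodule.range_subtype]
    obtain ⟨y, rfl⟩ := (rTensor_exact M hex π.surjective_rangeRestrict _).mp hπ
    clear hπ hex hinj hx
    have hker : LinearMap.ker π ≤ I ^ m • (⊤ : Submodule R J) := by
      rintro ⟨j, hj⟩ hj'
      have hj'' : j ∈ I ^ (m + k) := (Submodule.Quotient.mk_eq_zero _).mp hj'
      have : j ∈ I ^ (m + k) • (⊤ : Submodule R R) ⊓ J := ⟨by simpa using hj'', hj⟩
      rw [hk (m + k) (by omega), Nat.add_sub_cancel] at this
      have hsm : j ∈ (I ^ m • (⊤ : Submodule R J)).map J.subtype := by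
        rw [Submodule.map_smul'', Submodule.map_top, Submodule.range_subtype]
        exact Submodule.smul_mono le_rfl inf_le_right this
      obtain ⟨j', hj1, hj2⟩ := hsm
      rwa [show (⟨j, hj⟩ : J) = j' from Subtype.ext hj2.symm]
    induction y with
    | zero => simp
    | add a b ha hb => rw [map_add]; exact add_mem ha hb
    | tmul a b =>
      rw [LinearMap.rTensor_tmul]
      show (a : J) ⊗ₜ[R] b ∈ _
      refine Submodule.smul_induction_on (p := fun z : J => z ⊗ₜ[R] b ∈ (I ^ m) • (⊤ : Submodule R (J ⊗[R] M)))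
        (hker a.2) (fun r hr z _ => ?_) (fun p q hp hq => ?_)
      · rw [← smul_tmul']
        exact Submodule.smul_mem_smul hr trivial
      · rw [add_tmul]; exact add_mem hp hq
  let e := TensorProduct.comm R J M
  have : Module.Finite R J := Module.IsNoetherian.finite R J
  have : Module.Finite S (M ⊗[R] J) :=
    Module.Finite.equiv (AlgebraTensorModule.cancelBaseChange R S S M J)
  have hmem : ∀ m : ℕ, e x ∈ (I.map (algebraMap R S)) ^ m • (⊤ : Submodule S (M ⊗[R] J)) := by
    intro m
    refine Submodule.smul_induction_on (key m) (fun r hr z _ => ?_) (fun p q hp hq => ?_)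
    · rw [map_smul, ← algebraMap_smul S r]
      refine Submodule.smul_mem_smul ?_ trivial
      rw [← Ideal.map_pow]
      exact Ideal.mem_map_of_mem _ hr
    · rw [map_add]; exact add_mem hp hq
  have hbot := Ideal.iInf_pow_smul_eq_bot_of_le_jacobson (M := M ⊗[R] J) _ hjac
  have : e x ∈ (⊥ : Submodule S (M ⊗[R] J)) := by
    rw [← hbot]; exact Submodule.mem_iInf _ |>.mpr hmem
  simpa using this

/-- The local criterion of flatness. -/
theorem flat_of_rTensor_injective (I : Ideal R) (hjac : I.map (algebraMap R S) ≤ Ideal.jacobson ⊥)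
    (h1 : Injective (I.subtype.rTensor M)) (h2 : QuotFlat R M I) : Module.Flat R M :=
  flat_of_quotFlat_pow (S := S) I hjac (fun n => quotFlat_pow h1 h2 n)

end Adic

section BaseChange

variable {S : Type u} [CommRing S] [Algebra R S] [Module S M] [IsScalarTower R S M]

/-- `QuotFlat` passes to flat extensions of the upper ring. -/
theorem QuotFlat.baseChange {I : Ideal R} (h : QuotFlat R M I) (S' : Type u) [AddCommGroup S']
    [Module S S'] [Module R S'] [IsScalarTower R S S'] [Module.Flat S S'] :
    QuotFlat R (S' ⊗[S] M) I := by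
  intro A B _ _ _ _ i hB hi
  rw [← LinearMap.lTensor_inj_iff_rTensor_inj]
  let f : M ⊗[R] A →ₗ[S] M ⊗[R] B := AlgebraTensorModule.lTensor S M i
  have hf : Injective (f.lTensor S') :=
    Module.Flat.lTensor_preserves_injective_linearMap f
      ((LinearMap.lTensor_inj_iff_rTensor_inj M i).mpr (h i hB hi))
  let eA := AlgebraTensorModule.assoc R S S S' M A
  let eB := AlgebraTensorModule.assoc R S S S' M B
  have hc : ∀ x, eB (i.lTensor (S' ⊗[S] M) x) = f.lTensor S' (eA x) := by
    intro x
    induction x with
    | zero => simp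
    | add x y hx hy => simp [hx, hy]
    | tmul z a =>
      induction z with
      | zero => simp
      | add x y hx hy => rw [add_tmul, map_add, map_add, map_add, map_add, hx, hy]
      | tmul s m => simp [eA, eB, f]
  intro x y hxy
  apply eA.injective
  apply hf
  rw [← hc, ← hc, hxy]

theorem QuotFlat.of_linearEquiv {I : Ideal R} {M' : Type u} [AddCommGroup M'] [Module R M']
    (h : QuotFlat R M I) (e : M ≃ₗ[R] M') : QuotFlat R M' I := by
  intro A B _ _ _ _ i hB hi x y hxy
  apply (e.symm.lTensor A).injective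
  apply h i hB hi
  change (i.rTensor M ∘ₗ e.symm.toLinearMap.lTensor A) x = (i.rTensor M ∘ₗ e.symm.toLinearMap.lTensor A) y
  rw [LinearMap.rTensor_comp_lTensor, ← LinearMap.lTensor_comp_rTensor, LinearMap.comp_apply,
    LinearMap.comp_apply, hxy]

end BaseChange

section Away

/-- Flat after inverting `f` and modulo `f`, with `f` regular, implies flat. -/
theorem flat_of_away_of_quotient (f : R) (hR : f ∈ nonZeroDivisors R) (hM : IsSMulRegular M f)
    {M' : Type u} [AddCommGroup M'] [Module R M'] (ι : M →ₗ[R] M')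
    [IsLocalizedModule (Submonoid.powers f) ι] (hM' : Module.Flat R M')
    (h2 : QuotFlat R M (Ideal.span {f})) : Module.Flat R M := by
  have h1 : Injective ((Ideal.span {f}).subtype.rTensor M) := by
    let g : R →ₗ[R] Ideal.span {f} :=
      (LinearMap.mulRight R f).codRestrict _ (fun r => Ideal.mul_mem_left _ _ (Ideal.mem_span_singleton_self f))
    have hg : Surjective g := by
      rintro ⟨z, hz⟩
      obtain ⟨a, rfl⟩ := Ideal.mem_span_singleton'.mp hz
      exact ⟨a, rfl⟩
    rw [injective_iff_map_eq_zero]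
    intro x hx
    obtain ⟨y, rfl⟩ := LinearMap.rTensor_surjective M hg x
    obtain ⟨m, rfl⟩ := (TensorProduct.lid R M).symm.surjective y
    have hg1 : (g 1 : R) = f := one_mul f
    have : f • m = 0 := by
      simpa [hg1, -LinearMap.codRestrict_apply] using congrArg (TensorProduct.lid R M) hx
    rw [hM (this.trans (smul_zero f).symm)]
    simp
  rw [Module.Flat.iff_rTensor_injective]
  intro J _
  rw [injective_iff_map_eq_zero]
  intro x hx
  -- `x` dies after inverting `f`
  let L : J ⊗[R] M →ₗ[R] J ⊗[R] M' := ι.lTensor J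
  have hx0 : L x = 0 := by
    apply (injective_iff_map_eq_zero _).mp
      (Module.Flat.rTensor_preserves_injective_linearMap (M := M') J.subtype Subtype.val_injective)
    rw [← LinearMap.comp_apply, LinearMap.rTensor_comp_lTensor, ← LinearMap.lTensor_comp_rTensor,
      LinearMap.comp_apply, hx, map_zero]
  haveI : IsLocalizedModule (Submonoid.powers f) L := by
    let e := TensorProduct.comm R M' J
    let e' := TensorProduct.comm R J M
    have : L = (e.toLinearMap ∘ₗ ι.rTensor J) ∘ₗ e'.toLinearMap := by
      ext a m; rfl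
    haveI h : IsLocalizedModule (Submonoid.powers f) (ι.rTensor J) :=
      IsLocalizedModule.rTensor (R := R) (A := R) (N := J) (Submonoid.powers f) ι
    haveI : IsLocalizedModule (Submonoid.powers f) (e.toLinearMap ∘ₗ ι.rTensor J) := inferInstance
    show IsLocalizedModule (Submonoid.powers f) L
    rw [‹L = _›]
    infer_instance
  obtain ⟨⟨_, n, rfl⟩, hn⟩ :=
    (IsLocalizedModule.eq_iff_exists (Submonoid.powers f) L).mp (hx0.trans (map_zero L).symm)
  -- multiplication by `f` is injective on `J ⊗ M`
  let μ : J →ₗ[R] J := LinearMap.lsmul R J f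
  have hμ : Injective μ := by
    rintro ⟨a, ha⟩ ⟨b, hb⟩ hab
    apply Subtype.ext
    have : f * a = f * b := congrArg Subtype.val hab
    exact (mul_cancel_left_mem_nonZeroDivisors hR).mp this
  have hμM : Injective (μ.rTensor M) := by
    refine rTensor_injective_of_coker_killed h1 h2 μ hμ 1 fun r hr b => ?_
    rw [pow_one, Ideal.mem_span_singleton'] at hr
    obtain ⟨a, rfl⟩ := hr
    exact ⟨a • b, by simp [μ, smul_smul, mul_comm]⟩
  have hsm : ∀ z : J ⊗[R] M, μ.rTensor M z = f • z := by
    intro z
    induction z with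
    | zero => simp
    | add a b ha hb => simp [ha, hb]
    | tmul a b => simp [μ, smul_tmul']
  have hfn : f ^ n • x = 0 := by simpa [Submonoid.smul_def] using hn
  clear hn
  induction n with
  | zero => simpa using hfn
  | succ n ih =>
    refine ih ?_
    apply (injective_iff_map_eq_zero _).mp hμM
    rw [hsm, smul_smul, ← pow_succ', hfn]

end Away

end Groth.Agent.FlatCrit
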