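import Groth.Agent.FlatCrit.Tor
import Mathlib.RingTheory.Flat.FaithfullyFlat.Basic
import Mathlib.RingTheory.Nilpotent.Lemmas
import Mathlib.RingTheory.LocalRing.RingHom.Basic
import Mathlib.LinearAlgebra.Basis.VectorSpace

/-!
# Consequences of the local criteria
-/

universe u

namespace Groth.Agent.FlatCrit

open TensorProduct Function IsLocalRing

variable {R : Type u} [CommRing R] {M : Type u} [AddCommGroup M] [Module R M]

section Lower

variable {S : Type u} [CommRing S] [Algebra R S] [Module S M] [IsScalarTower R S M]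

/-- If `I ⊗_R M → M` is injective then so is `IS ⊗_S M → M`. -/
theorem rTensor_map_injective {I : Ideal R} (h : Injective (I.subtype.rTensor M)) :
    Injective ((I.map (algebraMap R S)).subtype.rTensor M) := by
  set I' := I.map (algebraMap R S)
  let b : I →+ M →+ I' ⊗[S] M :=
    { toFun := fun a =>
        { toFun := fun m => (⟨algebraMap R S a, Ideal.mem_map_of_mem _ a.2⟩ : I') ⊗ₜ[S] m
          map_zero' := tmul_zero _ _
          map_add' := fun x y => tmul_add _ x y }
      map_zero' := by
        ext m
        show ((⟨_, _⟩ : I') ⊗ₜ[S] m) = 0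
        rw [show (⟨algebraMap R S ((0 : I) : R), _⟩ : I') = 0 from Subtype.ext (map_zero _), zero_tmul]
      map_add' := fun x y => by
        ext m
        show ((⟨_, _⟩ : I') ⊗ₜ[S] m) = (⟨_, _⟩ : I') ⊗ₜ[S] m + (⟨_, _⟩ : I') ⊗ₜ[S] m
        rw [← add_tmul]
        congr
        exact map_add _ _ _ }
  let φ : I ⊗[R] M →+ I' ⊗[S] M := TensorProduct.liftAddHom b fun r a m => by
    show ((⟨_, _⟩ : I') ⊗ₜ[S] m) = (⟨_, _⟩ : I') ⊗ₜ[S] (r • m)
    rw [← algebraMap_smul S r m, ← smul_tmul]
    congr
    simp
  have hφ : ∀ a' : S, ∀ ha : a' ∈ I', ∀ m : M, ∃ y, φ y = (⟨a', ha⟩ : I') ⊗ₜ[S] m := by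
    intro a' ha
    induction ha using Submodule.span_induction with
    | mem x hx =>
      obtain ⟨a, ha, rfl⟩ := hx
      exact fun m => ⟨⟨a, ha⟩ ⊗ₜ[R] m, rfl⟩
    | zero =>
      intro m
      refine ⟨0, ?_⟩
      rw [map_zero, show (⟨0, _⟩ : I') = 0 from rfl, zero_tmul]
    | add x y hx hy hx' hy' =>
      intro m
      obtain ⟨p, hp⟩ := hx' m
      obtain ⟨q, hq⟩ := hy' m
      refine ⟨p + q, ?_⟩
      rw [map_add, hp, hq, ← add_tmul]
      rfl
    | smul s x hx hx' =>
      intro m
      obtain ⟨p, hp⟩ := hx' (s • m)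
      refine ⟨p, ?_⟩
      rw [hp, ← smul_tmul]
      rfl
  have hsurj : Surjective φ := by
    intro x
    induction x with
    | zero => exact ⟨0, map_zero φ⟩
    | add x y hx hy =>
      obtain ⟨p, rfl⟩ := hx
      obtain ⟨q, rfl⟩ := hy
      exact ⟨p + q, map_add φ p q⟩
    | tmul a m => exact hφ a.1 a.2 m
  rw [injective_iff_map_eq_zero]
  intro x hx
  obtain ⟨y, rfl⟩ := hsurj x
  have hc : ∀ y, TensorProduct.lid S M (I'.subtype.rTensor M (φ y)) =
      TensorProduct.lid R M (I.subtype.rTensor M y) := by
    intro y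
    induction y with
    | zero => simp
    | add p q hp hq => simp only [map_add, hp, hq]
    | tmul a m => exact algebraMap_smul S (a : R) m
  have : y = 0 := by
    apply (injective_iff_map_eq_zero _).mp h
    apply (TensorProduct.lid R M).injective
    rw [← hc, hx, map_zero, map_zero]
  rw [this, map_zero]

/-- A flat module over `R` that is faithfully flat over `S` makes `S` flat over `R`. -/
theorem flat_of_flat_of_faithfullyFlat [Module.Flat R M] [Module.FaithfullyFlat S M] :
    Module.Flat R S := by
  rw [Module.Flat.iff_lTensor_preserves_injective_linearMap]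
  intro A B _ _ _ _ i hi
  let f : S ⊗[R] A →ₗ[S] S ⊗[R] B := AlgebraTensorModule.lTensor S S i
  suffices Injective f from this
  apply (Module.FaithfullyFlat.lTensor_injective_iff_injective S M f).mp
  let eA := AlgebraTensorModule.cancelBaseChange R S S M A
  let eB := AlgebraTensorModule.cancelBaseChange R S S M B
  have hc : ∀ x, eB (f.lTensor M x) = i.lTensor M (eA x) := by
    intro x
    induction x with
    | zero => simp
    | add x y hx hy => rw [map_add, map_add, map_add, map_add, hx, hy]
    | tmul z a =>
      induction a with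
      | zero => simp
      | add x y hx hy => rw [tmul_add, map_add, map_add, map_add, map_add, hx, hy]
      | tmul s m => simp [eA, eB, f]
  intro x y hxy
  apply eA.injective
  apply Module.Flat.lTensor_preserves_injective_linearMap i hi
  rw [← hc, ← hc, hxy]

end Lower

theorem quotFlat_top : QuotFlat R M (⊤ : Ideal R) := by
  intro A B _ _ _ _ i hB hi
  have hB' : Subsingleton B := ⟨fun x y => by
    rw [← one_smul R x, hB 1 trivial, ← one_smul R y, hB 1 trivial]⟩
  have : Subsingleton A := hi.subsingleton
  intro x y _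
  exact Subsingleton.elim x y

/-- Flatness of a localization from flatness of the quotients by powers. -/
theorem flat_localizedModule_of_quotFlat_pow {S : Type u} [CommRing S] [Algebra R S] [Module S M]
    [IsScalarTower R S M] [IsNoetherianRing R] [IsNoetherianRing S] [Module.Finite S M]
    (I : Ideal R) (h : ∀ n, QuotFlat R M (I ^ n)) (q : Ideal S) [q.IsPrime]
    (hq : I.map (algebraMap R S) ≤ q) : Module.Flat R (LocalizedModule q.primeCompl M) := by
  let Sq := Localization.AtPrime q
  let Mq := LocalizedModule q.primeCompl M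
  have hb := IsLocalizedModule.isBaseChange q.primeCompl Sq (LocalizedModule.mkLinearMap q.primeCompl M)
  have : Module.Finite Sq Mq := Module.Finite.equiv hb.equiv
  have : IsNoetherianRing Sq := IsLocalization.isNoetherianRing q.primeCompl Sq inferInstance
  refine flat_of_quotFlat_pow (S := Sq) I ?_ fun n =>
    ((h n).baseChange (S := S) Sq).of_linearEquiv (hb.equiv.restrictScalars R)
  rw [IsLocalRing.jacobson_eq_maximalIdeal ⊥ bot_ne_top, IsScalarTower.algebraMap_eq R S Sq,
    ← Ideal.map_map, ← IsLocalization.AtPrime.map_eq_maximalIdeal q Sq]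
  exact Ideal.map_mono hq

section NilFree

variable [IsLocalRing R]

theorem submodule_eq_top_of_nilpotent {I : Ideal R} (hI : IsNilpotent I) (N : Submodule R M)
    (h : N ⊔ I • ⊤ = ⊤) : N = ⊤ := by
  obtain ⟨n, hn⟩ := hI
  have key : ∀ n, N ⊔ I ^ n • ⊤ = ⊤ := by
    intro n
    induction n with
    | zero => simp
    | succ n ih =>
      rw [eq_top_iff]
      conv_lhs => rw [← h]
      refine sup_le le_sup_left ?_
      conv_lhs => rw [← ih]
      rw [Submodule.smul_sup, ← Submodule.mul_smul, ← pow_succ']
      exact sup_le (le_sup_of_le_left Submodule.smul_le_right) le_sup_right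
  simpa [hn] using key n

theorem free_of_flat_of_isNilpotent (hR : IsNilpotent (maximalIdeal R)) [Module.Flat R M] :
    Module.Free R M := by
  let k := ResidueField R
  let w := Module.Free.chooseBasis k (k ⊗[R] M)
  obtain ⟨v, eq⟩ := (TensorProduct.mk_surjective R M k Ideal.Quotient.mk_surjective).comp_left w
  refine .of_basis <| .mk (Module.IsLocalRing.linearIndependent_of_flat _ (eq ▸ w.linearIndependent))
    (submodule_eq_top_of_nilpotent hR _ ?_).ge
  rw [eq_top_iff]
  intro m _
  have hm : TensorProduct.mk R k M 1 m ∈ Submodule.span R (Set.range w) := by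
    have := w.mem_span (TensorProduct.mk R k M 1 m)
    rwa [← Submodule.restrictScalars_mem R,
      Submodule.restrictScalars_span R k (Ideal.Quotient.mk_surjective (I := maximalIdeal R))] at this
  rw [← eq, Set.range_comp, ← Submodule.map_span] at hm
  obtain ⟨n, hn, hn'⟩ := hm
  have : m - n ∈ (maximalIdeal R • ⊤ : Submodule R M) := by
    rw [← LinearMap.ker_tensorProductMk, LinearMap.mem_ker, map_sub]
    exact sub_eq_zero.mpr hn'.symm
  rw [← add_sub_cancel n m]
  exact Submodule.add_mem_sup hn this

end NilFree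

section ModMax

variable (M) in
/-- Multiplication `K ⊗ M → M`. -/
noncomputable def mulMap (K : Ideal R) : K ⊗[R] M →ₗ[R] M :=
  (TensorProduct.lid R M).toLinearMap ∘ₗ K.subtype.rTensor M

theorem mulMap_tmul (K : Ideal R) (a : K) (m : M) : mulMap M K (a ⊗ₜ[R] m) = (a : R) • m := rfl

theorem range_mulMap (K : Ideal R) : LinearMap.range (mulMap M K) = K • ⊤ := by
  apply le_antisymm
  · rintro _ ⟨x, rfl⟩
    induction x with
    | zero => simp
    | add x y hx hy => rw [map_add]; exact add_mem hx hy
    | tmul a m => exact Submodule.smul_mem_smul a.2 trivial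
  · rw [Submodule.smul_le]
    exact fun r hr m _ => ⟨⟨r, hr⟩ ⊗ₜ[R] m, rfl⟩

theorem mulMap_lTensor {N : Type u} [AddCommGroup N] [Module R N] (u : N →ₗ[R] M) (K : Ideal R)
    (t : K ⊗[R] N) : mulMap M K (u.lTensor K t) = u (mulMap N K t) := by
  induction t with
  | zero => simp
  | add x y hx hy => simp only [map_add, hx, hy]
  | tmul a m => simp [mulMap_tmul]

theorem mulMap_injective [Module.Flat R M] (K : Ideal R) : Injective (mulMap M K) :=
  (TensorProduct.lid R M).injective.comp
    (Module.Flat.rTensor_preserves_injective_linearMap K.subtype Subtype.val_injective)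

variable [IsLocalRing R] {N : Type u} [AddCommGroup N] [Module R N] [Module.Flat R M]
  (u : N →ₗ[R] M) (h : Injective (u.lTensor (ResidueField R)))
include h

theorem mem_smul_of_map_mem_step (J : Ideal R) (n : ℕ) (x : N) (hx : u x ∈ J • (⊤ : Submodule R M))
    (hxn : x ∈ J • (⊤ : Submodule R N) ⊔ maximalIdeal R ^ n • ⊤) :
    x ∈ J • (⊤ : Submodule R N) ⊔ maximalIdeal R ^ (n + 1) • ⊤ := by
  obtain ⟨j, hj, y, hy, rfl⟩ := Submodule.mem_sup.mp hxn
  refine add_mem (Submodule.mem_sup_left hj) ?_
  set K := maximalIdeal R ^ n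
  rw [← range_mulMap] at hy
  obtain ⟨t, rfl⟩ := hy
  have hz : mulMap M K (u.lTensor K t) ∈ J • (⊤ : Submodule R M) := by
    rw [mulMap_lTensor]
    have huj : u j ∈ J • (⊤ : Submodule R M) :=
      (Submodule.map_smul'' J ⊤ u).trans_le (Submodule.smul_mono le_rfl le_top)
        (Submodule.mem_map_of_mem hj)
    simpa using sub_mem hx huj
  let π : K →ₗ[R] R ⧸ J := J.mkQ ∘ₗ K.subtype
  let π' := π.rangeRestrict
  let k := ResidueField R
  have h0 : π'.rTensor M (u.lTensor K t) = 0 := by
    apply (injective_iff_map_eq_zero _).mp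
      (Module.Flat.rTensor_preserves_injective_linearMap (M := M) (LinearMap.range π).subtype
        Subtype.val_injective)
    rw [← LinearMap.comp_apply, ← LinearMap.rTensor_comp, LinearMap.subtype_comp_codRestrict]
    have hc : ∀ s, π.rTensor M s = TensorProduct.mk R (R ⧸ J) M 1 (mulMap M K s) := by
      intro s
      induction s with
      | zero => simp
      | add p q hp hq => simp only [map_add, hp, hq]
      | tmul a m =>
        rw [mulMap_tmul, LinearMap.rTensor_tmul, TensorProduct.mk_apply, ← smul_tmul]
        congr 1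
        show Submodule.Quotient.mk (a : R) = (a : R) • (Submodule.Quotient.mk 1 : R ⧸ J)
        rw [← Submodule.Quotient.mk_smul, smul_eq_mul, mul_one]
    rw [hc, ← LinearMap.mem_ker, LinearMap.ker_tensorProductMk]
    exact hz
  let mkN : N →ₗ[R] k ⊗[R] N := TensorProduct.mk R k N 1
  have h1 : TensorProduct.map π' mkN t = 0 := by
    let uk := u.baseChange k
    obtain ⟨l, hl⟩ := LinearMap.exists_leftInverse_of_injective uk (LinearMap.ker_eq_bot.mpr h)
    have hinj : Injective ((uk.restrictScalars R).lTensor (LinearMap.range π)) := by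
      refine HasLeftInverse.injective ⟨(l.restrictScalars R).lTensor _, fun z => ?_⟩
      rw [← LinearMap.comp_apply, ← LinearMap.lTensor_comp, ← LinearMap.restrictScalars_comp, hl,
        LinearMap.restrictScalars_id, LinearMap.lTensor_id, LinearMap.id_apply]
    apply (injective_iff_map_eq_zero _).mp hinj
    have hc : ∀ s, (uk.restrictScalars R).lTensor (LinearMap.range π) (TensorProduct.map π' mkN s) =
        (TensorProduct.mk R k M 1).lTensor _ (π'.rTensor M (u.lTensor K s)) := by
      intro s
      induction s with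
      | zero => simp
      | add p q hp hq => simp only [map_add, hp, hq]
      | tmul a m => simp [uk, mkN]
    rw [hc, h0, map_zero]
  have hex : Exact (maximalIdeal R • (⊤ : Submodule R N)).subtype mkN := by
    rw [LinearMap.exact_iff, Submodule.range_subtype]
    exact LinearMap.ker_tensorProductMk (Q := N) (I := maximalIdeal R)
  have hex' : Exact (LinearMap.ker π).subtype π' := by
    rw [LinearMap.exact_iff, LinearMap.ker_rangeRestrict, Submodule.range_subtype]
  have hker := TensorProduct.map_ker (R := R) hex' π.surjective_rangeRestrict hex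
    (TensorProduct.mk_surjective R N k (Ideal.Quotient.mk_surjective (I := maximalIdeal R)))
  have ht : t ∈ LinearMap.ker (TensorProduct.map π' mkN) := h1
  rw [hker, Submodule.mem_sup] at ht
  obtain ⟨_, ⟨t₁, rfl⟩, _, ⟨t₂, rfl⟩, rfl⟩ := ht
  clear h1 h0 hz hx hxn
  rw [map_add]
  refine add_mem (Submodule.mem_sup_right ?_) (Submodule.mem_sup_left ?_)
  · induction t₁ with
    | zero => simp
    | add p q hp hq => rw [map_add, map_add]; exact add_mem hp hq
    | tmul a m =>
      rw [LinearMap.lTensor_tmul, mulMap_tmul, pow_succ, Submodule.mul_smul]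
      exact Submodule.smul_mem_smul a.2 m.2
  · induction t₂ with
    | zero => simp
    | add p q hp hq => rw [map_add, map_add]; exact add_mem hp hq
    | tmul a m =>
      rw [LinearMap.rTensor_tmul, mulMap_tmul]
      exact Submodule.smul_mem_smul ((Submodule.Quotient.mk_eq_zero J).mp a.2) trivial

theorem mem_smul_of_map_mem_pow (J : Ideal R) (x : N) (hx : u x ∈ J • (⊤ : Submodule R M)) :
    ∀ n, x ∈ J • (⊤ : Submodule R N) ⊔ maximalIdeal R ^ n • ⊤ := by
  intro n
  induction n with
  | zero => simp
  | succ n ih => exact mem_smul_of_map_mem_step u h J n x hx ih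

variable {S : Type u} [CommRing S] [Algebra R S] [Module S N] [IsScalarTower R S N]
  [IsNoetherianRing S] [Module.Finite S N]
  (hjac : (maximalIdeal R).map (algebraMap R S) ≤ Ideal.jacobson ⊥)
include hjac

theorem mem_smul_of_map_mem (J : Ideal R) (x : N) (hx : u x ∈ J • (⊤ : Submodule R M)) :
    x ∈ J • (⊤ : Submodule R N) := by
  let JN : Submodule S N := J.map (algebraMap R S) • ⊤
  have hres : ∀ K : Ideal R, ((K.map (algebraMap R S)) • (⊤ : Submodule S N)).restrictScalars R
      = K • (⊤ : Submodule R N) := fun K => by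
    rw [Ideal.smul_restrictScalars, Submodule.restrictScalars_top]
  have key : ∀ n, JN.mkQ x ∈ ((maximalIdeal R).map (algebraMap R S)) ^ n •
      (⊤ : Submodule S (N ⧸ JN)) := by
    intro n
    obtain ⟨a, ha, b, hb, rfl⟩ := Submodule.mem_sup.mp (mem_smul_of_map_mem_pow u h J x hx n)
    rw [← hres, Submodule.restrictScalars_mem] at ha hb
    rw [map_add, show JN.mkQ a = 0 from (Submodule.Quotient.mk_eq_zero _).mpr ha, zero_add,
      ← Ideal.map_pow]
    exact (Submodule.map_smul'' _ ⊤ JN.mkQ).trans_le (Submodule.smul_mono le_rfl le_top)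
      (Submodule.mem_map_of_mem hb)
  have hbot := Ideal.iInf_pow_smul_eq_bot_of_le_jacobson (M := N ⧸ JN) _ hjac
  have : JN.mkQ x ∈ (⊥ : Submodule S (N ⧸ JN)) := by
    rw [← hbot]; exact (Submodule.mem_iInf _).mpr key
  rw [← hres, Submodule.restrictScalars_mem]
  exact (Submodule.Quotient.mk_eq_zero _).mp this

theorem injective_of_injective_mod_max : Injective u := by
  rw [injective_iff_map_eq_zero]
  intro x hx
  have := mem_smul_of_map_mem u h hjac ⊥ x (by simp [hx])
  simpa using this

theorem flat_coker_of_injective_mod_max : Module.Flat R (M ⧸ LinearMap.range u) := by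
  rw [Module.Flat.iff_rTensor_injective]
  intro J _
  suffices Injective (mulMap (M ⧸ LinearMap.range u) J) from Injective.of_comp (f := TensorProduct.lid R _) this
  rw [injective_iff_map_eq_zero]
  intro c hc
  let q := (LinearMap.range u).mkQ
  obtain ⟨y, rfl⟩ := LinearMap.lTensor_surjective J (Submodule.mkQ_surjective (LinearMap.range u)) c
  rw [mulMap_lTensor, Submodule.mkQ_apply, Submodule.Quotient.mk_eq_zero] at hc
  obtain ⟨n, hn⟩ := hc
  have hn' : n ∈ J • (⊤ : Submodule R N) := by
    refine mem_smul_of_map_mem u h hjac J n ?_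
    rw [hn, ← range_mulMap]
    exact LinearMap.mem_range_self _ _
  rw [← range_mulMap] at hn'
  obtain ⟨t, rfl⟩ := hn'
  have : y = u.lTensor J t := mulMap_injective (M := M) J (by rw [mulMap_lTensor, hn])
  rw [this, ← LinearMap.comp_apply, ← LinearMap.lTensor_comp, LinearMap.range_mkQ_comp,
    LinearMap.lTensor_zero, LinearMap.zero_apply]

end ModMax

end Groth.Agent.FlatCrit
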