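import Mathlib

/-! Support of a base change of a finite module. -/

universe u v w

namespace Groth.Agent.FlatCrit

open TensorProduct

theorem annihilator_map_le {S : Type u} {S' : Type v} [CommRing S] [CommRing S'] [Algebra S S']
    (N : Type w) [AddCommGroup N] [Module S N] :
    (Module.annihilator S N).map (algebraMap S S') ≤ Module.annihilator S' (S' ⊗[S] N) := by
  rw [Ideal.map_le_iff_le_comap]
  intro a ha
  rw [Ideal.mem_comap, Module.mem_annihilator]
  intro x
  induction x using TensorProduct.induction_on with
  | zero => simp
  | tmul s n =>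
    rw [algebraMap_smul, TensorProduct.smul_tmul', TensorProduct.smul_tmul,
      Module.mem_annihilator.1 ha n, tmul_zero]
  | add x y hx hy => rw [smul_add, hx, hy, add_zero]

theorem mem_support_baseChange_iff {S : Type u} {S' : Type v} [CommRing S] [CommRing S'] [Algebra S S']
    (N : Type w) [AddCommGroup N] [Module S N] [Module.Finite S N] (x : PrimeSpectrum S') :
    x ∈ Module.support S' (S' ⊗[S] N) ↔ PrimeSpectrum.comap (algebraMap S S') x ∈ Module.support S N := by
  rw [Module.mem_support_iff_of_finite, Module.mem_support_iff_of_finite, PrimeSpectrum.comap_asIdeal,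
    ← Ideal.map_le_iff_le_comap]
  refine ⟨fun h => (annihilator_map_le N).trans h, fun h => ?_⟩
  set p := x.asIdeal.comap (algebraMap S S')
  rw [Ideal.map_le_iff_le_comap] at h
  have hp : (⟨p, inferInstance⟩ : PrimeSpectrum S) ∈ Module.support S N :=
    Module.mem_support_iff_of_finite.2 h
  have : Nontrivial (LocalizedModule p.primeCompl N) := hp
  have : Nontrivial (p.ResidueField ⊗[Localization.AtPrime p] LocalizedModule p.primeCompl N) := by
    rw [← not_subsingleton_iff_nontrivial]
    rw [← not_subsingleton_iff_nontrivial] at this
    exact fun h => this (IsLocalRing.subsingleton_tensorProduct.1 h)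
  obtain ⟨z, hz⟩ := exists_ne (0 : p.ResidueField ⊗[Localization.AtPrime p] LocalizedModule p.primeCompl N)
  obtain ⟨f, hf⟩ : ∃ f : Module.Dual p.ResidueField
      (p.ResidueField ⊗[Localization.AtPrime p] LocalizedModule p.primeCompl N), f z ≠ 0 := by
    by_contra hc; push Not at hc
    exact hz ((Module.forall_dual_apply_eq_zero_iff p.ResidueField z).1 hc)
  let φ : N →ₗ[S] p.ResidueField :=
    (f.restrictScalars S) ∘ₗ
      ((TensorProduct.mk (Localization.AtPrime p) p.ResidueField
        (LocalizedModule p.primeCompl N) 1).restrictScalars S) ∘ₗ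
      LocalizedModule.mkLinearMap p.primeCompl N
  obtain ⟨n, hn⟩ : ∃ n, φ n ≠ 0 := by
    by_contra hc; push Not at hc
    have hf0 : ∀ w, f w = 0 := fun w => by
      induction w using TensorProduct.induction_on with
      | zero => simp
      | add a b ha hb => rw [map_add, ha, hb, add_zero]
      | tmul c m =>
        induction m using LocalizedModule.induction_on with
        | h n s =>
          have h1 : c ⊗ₜ[Localization.AtPrime p] LocalizedModule.mk n s =
              (c * algebraMap (Localization.AtPrime p) p.ResidueField (Localization.mk 1 s)) •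
                ((1 : p.ResidueField) ⊗ₜ[Localization.AtPrime p] LocalizedModule.mk n 1) := by
            rw [TensorProduct.smul_tmul', smul_eq_mul, mul_one, mul_comm, ← Algebra.smul_def,
              TensorProduct.smul_tmul, LocalizedModule.mk_smul_mk, one_smul, mul_one]
          rw [h1, map_smul]
          have := hc n
          simp only [φ, LinearMap.comp_apply, LinearMap.restrictScalars_apply,
            LocalizedModule.mkLinearMap_apply, TensorProduct.mk_apply] at this
          rw [this, smul_zero]
    exact hf (hf0 z)
  let g : p.ResidueField →ₐ[S] x.asIdeal.ResidueField :=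
    Ideal.ResidueField.mapₐ p x.asIdeal (Algebra.ofId S S') rfl
  let ψ : S' ⊗[S] N →ₗ[S'] x.asIdeal.ResidueField := LinearMap.liftBaseChange S' (g.toLinearMap ∘ₗ φ)
  intro s hs
  by_contra hsx
  have h0 : s • ψ ((1 : S') ⊗ₜ n) = 0 := by
    rw [← map_smul, Module.mem_annihilator.1 hs _, map_zero]
  rw [Algebra.smul_def, mul_eq_zero, Ideal.algebraMap_residueField_eq_zero] at h0
  rcases h0 with h0 | h0
  · exact hsx h0
  · rw [LinearMap.liftBaseChange_tmul, one_smul] at h0
    exact hn (g.injective (h0.trans (map_zero g).symm))

end Groth.Agent.FlatCrit
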