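import Mathlib

/-!
Endomorphisms congruent to the identity stay injective after tensoring; applications to
`q ⊔ I S ≠ ⊤` for primes which are annihilators of elements of `N ⊗ M`.
-/

universe u v w

namespace Groth.Agent.FlatCrit

open TensorProduct IsLocalRing

variable {R : Type u} [CommRing R]

theorem rTensor_injective_of_idempotent_cover [IsLocalRing R] {N : Type v} [AddCommGroup N] [Module R N]
    (M : Type w) [AddCommGroup M] [Module R M] (φ : N →ₗ[R] N)
    (hφ : ∀ n, φ n - n ∈ maximalIdeal R • (⊤ : Submodule R N))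
    (hcov : ∀ x : N ⊗[R] M, ∃ e : N →ₗ[R] N, e ∘ₗ e = e ∧ (LinearMap.range e).FG ∧ e.rTensor M x = x) :
    Function.Injective (φ.rTensor M) := by
  rw [injective_iff_map_eq_zero]
  intro x hx
  obtain ⟨e, hee, hfg, hex⟩ := hcov x
  set P := LinearMap.range e
  have : Module.Finite R P := Module.Finite.iff_fg.2 hfg
  have hπι : e.rangeRestrict ∘ₗ P.subtype = LinearMap.id := by
    ext ⟨_, n, rfl⟩
    exact LinearMap.congr_fun hee n
  set ψ : P →ₗ[R] P := e.rangeRestrict ∘ₗ φ ∘ₗ P.subtype with hψ
  have hψs : Function.Surjective ψ := by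
    rw [← LinearMap.range_eq_top]
    refine top_le_iff.1 (Submodule.le_of_le_smul_of_le_jacobson_bot Module.Finite.fg_top
      (IsLocalRing.maximalIdeal_le_jacobson ⊥) fun p _ => ?_)
    have h1 : ψ p - p ∈ maximalIdeal R • (⊤ : Submodule R P) := by
      have h2 : e.rangeRestrict (φ p - p) ∈
          (maximalIdeal R • (⊤ : Submodule R N)).map e.rangeRestrict :=
        Submodule.mem_map_of_mem (hφ p)
      rw [Submodule.map_smul''] at h2
      have h3 : e.rangeRestrict (φ p - p) = ψ p - p := by
        rw [map_sub]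
        congr 1
        exact LinearMap.congr_fun hπι p
      rw [← h3]
      exact Submodule.smul_mono le_rfl le_top h2
    exact Submodule.mem_sup.2 ⟨ψ p, LinearMap.mem_range_self ψ p, p - ψ p,
      by rw [← neg_sub]; exact Submodule.neg_mem _ h1, by abel⟩
  have hψb : Function.Bijective ψ :=
    ⟨OrzechProperty.injective_of_surjective_endomorphism ψ hψs, hψs⟩
  obtain ⟨y, hy⟩ : ∃ y, P.subtype.rTensor M y = x :=
    ⟨e.rangeRestrict.rTensor M x, by
      rw [← LinearMap.comp_apply, ← LinearMap.rTensor_comp, show P.subtype ∘ₗ e.rangeRestrict = e from rfl, hex]⟩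
  have h0 : ψ.rTensor M y = 0 := by
    rw [hψ, LinearMap.rTensor_comp, LinearMap.rTensor_comp, LinearMap.comp_apply,
      LinearMap.comp_apply, hy, hx, map_zero]
  have : y = 0 := by
    have hinj : Function.Injective (ψ.rTensor M) :=
      ((LinearEquiv.ofBijective ψ hψb).rTensor M).injective
    exact hinj (h0.trans (map_zero _).symm)
  rw [← hy, this, map_zero]

theorem rTensor_injective_of_projections [IsLocalRing R] {N : Type v} [AddCommGroup N] [Module R N]
    (M : Type w) [AddCommGroup M] [Module R M] {κ : Type*} (p : κ → N →ₗ[R] N)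
    (hpp : ∀ i n, p i (p i n) = p i n) (hpq : ∀ i j n, i ≠ j → p i (p j n) = 0)
    (hfg : ∀ i, (LinearMap.range (p i)).FG)
    (hsupp : ∀ n, ∃ J₀ : Finset κ, ∀ J : Finset κ, J₀ ⊆ J → ∑ i ∈ J, p i n = n)
    (φ : N →ₗ[R] N) (hφ : ∀ n, φ n - n ∈ maximalIdeal R • (⊤ : Submodule R N)) :
    Function.Injective (φ.rTensor M) := by
  classical
  refine rTensor_injective_of_idempotent_cover M φ hφ fun x => ?_
  obtain ⟨J, hJ⟩ : ∃ J₀ : Finset κ, ∀ J, J₀ ⊆ J → (∑ i ∈ J, p i).rTensor M x = x := by
    induction x using TensorProduct.induction_on with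
    | zero => exact ⟨∅, fun J _ => map_zero _⟩
    | tmul n m =>
      obtain ⟨J₀, h⟩ := hsupp n
      exact ⟨J₀, fun J hJ => by simp [h J hJ]⟩
    | add a b ha hb =>
      obtain ⟨Ja, ha⟩ := ha
      obtain ⟨Jb, hb⟩ := hb
      exact ⟨Ja ∪ Jb, fun J hJ => by
        rw [map_add, ha J (Finset.union_subset_left hJ), hb J (Finset.union_subset_right hJ)]⟩
  have key : ∀ j ∈ J, ∀ n, (∑ i ∈ J, p i) (p j n) = p j n := fun j hj n => by
    rw [LinearMap.sum_apply, Finset.sum_eq_single j (fun i _ hij => hpq i j n hij)
      (fun h => absurd hj h), hpp]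
  refine ⟨∑ i ∈ J, p i, ?_, ?_, hJ J subset_rfl⟩
  · ext n
    rw [LinearMap.comp_apply]
    conv_lhs => arg 2; rw [LinearMap.sum_apply]
    rw [map_sum, LinearMap.sum_apply]
    exact Finset.sum_congr rfl fun j hj => key j hj n
  · have : LinearMap.range (∑ i ∈ J, p i) = ⨆ i ∈ J, LinearMap.range (p i) := by
      refine le_antisymm ?_ (iSup₂_le fun j hj => ?_)
      · rintro _ ⟨n, rfl⟩
        rw [LinearMap.sum_apply]
        exact Submodule.sum_mem _ fun j hj =>
          (le_iSup₂ (f := fun i (_ : i ∈ J) => LinearMap.range (p i)) j hj)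
            (LinearMap.mem_range_self _ n)
      · rintro _ ⟨n, rfl⟩
        exact ⟨p j n, key j hj n⟩
    rw [this]
    exact Submodule.fg_biSup J _ fun i _ => hfg i

theorem rTensor_injective_of_congr_of_isInternal [IsLocalRing R] {N : Type v} [AddCommGroup N]
    [Module R N] (M : Type w) [AddCommGroup M] [Module R M] {κ : Type*} [DecidableEq κ]
    (F : κ → Submodule R N) (hF : DirectSum.IsInternal F) (hfin : ∀ i, Module.Finite R (F i))
    (φ : N →ₗ[R] N) (hφ : ∀ n, φ n - n ∈ maximalIdeal R • (⊤ : Submodule R N)) :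
    Function.Injective (φ.rTensor M) := by
  classical
  let d := LinearEquiv.ofBijective (DirectSum.coeLinearMap F) hF
  let c : ∀ i, N →ₗ[R] F i := fun i => DirectSum.component R κ (fun i => F i) i ∘ₗ d.symm.toLinearMap
  have hd : ∀ j (y : F j), d.symm (y : N) = DirectSum.lof R κ (fun i => F i) j y := fun j y => by
    apply d.injective
    rw [LinearEquiv.apply_symm_apply]
    exact (DirectSum.coeLinearMap_of F j y).symm
  refine rTensor_injective_of_projections M (fun i => (F i).subtype ∘ₗ c i) ?_ ?_ ?_ ?_ φ hφ
  · intro i n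
    simp only [LinearMap.comp_apply, Submodule.subtype_apply, c, LinearEquiv.coe_coe, hd]
    rw [DirectSum.component.lof_self]
  · intro i j n hij
    simp only [LinearMap.comp_apply, Submodule.subtype_apply, c, LinearEquiv.coe_coe, hd]
    rw [DirectSum.component.of, dif_neg hij.symm]
    rfl
  · intro i
    have := hfin i
    have h' : Function.Surjective (c i) := fun y => ⟨y, by
      simp only [LinearMap.comp_apply, c, LinearEquiv.coe_coe, hd, DirectSum.component.lof_self]⟩
    rw [LinearMap.range_comp_of_range_eq_top _ (LinearMap.range_eq_top.2 h'), Submodule.range_subtype]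
    exact Module.Finite.iff_fg.1 (hfin i)
  · intro n
    refine ⟨DFinsupp.support (d.symm n), fun J hJ => ?_⟩
    calc ∑ i ∈ J, ((F i).subtype ∘ₗ c i) n
        = d (∑ i ∈ J, DirectSum.lof R κ (fun i => F i) i (d.symm n i)) := by
          rw [map_sum]
          refine Finset.sum_congr rfl fun i _ => ?_
          exact (DirectSum.coeLinearMap_of F i _).symm
      _ = d (d.symm n) := by
          congr 1
          rw [← Finset.sum_subset hJ fun i _ hi => by
            rw [DFinsupp.notMem_support_iff.1 hi, map_zero]]
          exact DirectSum.sum_support_of _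
      _ = n := d.apply_symm_apply n

theorem rTensor_injective_of_congr_of_projective [IsLocalRing R] {N : Type v} [AddCommGroup N]
    [Module R N] [Module.Projective R N] (M : Type w) [AddCommGroup M] [Module R M]
    (φ : N →ₗ[R] N) (hφ : ∀ n, φ n - n ∈ maximalIdeal R • (⊤ : Submodule R N)) :
    Function.Injective (φ.rTensor M) := by
  classical
  let s : (N →₀ R) →ₗ[R] N := Finsupp.linearCombination R id
  obtain ⟨i, hi⟩ := Module.projective_lifting_property s LinearMap.id
    (Finsupp.linearCombination_id_surjective R N)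
  let φ' : (N →₀ R) →ₗ[R] (N →₀ R) := i ∘ₗ φ ∘ₗ s + (LinearMap.id - i ∘ₗ s)
  have h1 : φ' ∘ₗ i = i ∘ₗ φ := by
    refine LinearMap.ext fun n => ?_
    have := LinearMap.congr_fun hi n
    simp only [LinearMap.comp_apply, LinearMap.id_apply] at this
    simp [φ', this]
  have h2 : Function.Injective (φ'.rTensor M) := by
    refine rTensor_injective_of_projections M
      (fun a => Finsupp.lsingle a ∘ₗ Finsupp.lapply a) ?_ ?_ ?_ ?_ φ' fun x => ?_
    · intro a n; simp
    · intro a b n hab; simp [Finsupp.single_eq_of_ne hab]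
    · intro a
      have : LinearMap.range (Finsupp.lsingle (R := R) a ∘ₗ (Finsupp.lapply a : (N →₀ R) →ₗ[R] R)) =
          LinearMap.range (Finsupp.lsingle (R := R) (M := R) a) :=
        LinearMap.range_comp_of_range_eq_top _
          (LinearMap.range_eq_top.2 fun r => ⟨Finsupp.single a r, by simp⟩)
      rw [this, LinearMap.range_eq_map]
      exact Module.Finite.fg_top.map _
    · intro f
      refine ⟨f.support, fun J hJ => ?_⟩
      rw [← Finset.sum_subset hJ fun a _ ha => by simp [Finsupp.notMem_support_iff.1 ha]]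
      simpa [Finsupp.sum] using f.sum_single
    · have : φ' x - x = i (φ (s x) - s x) := by simp [φ', map_sub]; abel
      rw [this]
      have h3 := Submodule.mem_map_of_mem (f := i) (hφ (s x))
      rw [Submodule.map_smul''] at h3
      exact Submodule.smul_mono le_rfl le_top h3
  have h3 : Function.Injective (i.rTensor M) :=
    Function.HasLeftInverse.injective ⟨s.rTensor M, fun t => by
      rw [← LinearMap.comp_apply, ← LinearMap.rTensor_comp, hi, LinearMap.rTensor_id,
        LinearMap.id_apply]⟩
  have := h2.comp h3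
  rw [← LinearMap.coe_comp, ← LinearMap.rTensor_comp, h1, LinearMap.rTensor_comp,
    LinearMap.coe_comp] at this
  exact this.of_comp

variable {S : Type u} [CommRing S] [Algebra R S]
variable {N : Type u} [AddCommGroup N] [Module S N] [Module R N] [IsScalarTower R S N]

theorem smul_mem_of_mem_map {I : Ideal R} {b : S} (hb : b ∈ I.map (algebraMap R S)) (n : N) :
    b • n ∈ I • (⊤ : Submodule R N) := by
  induction hb using Submodule.span_induction generalizing n with
  | mem x hx =>
    obtain ⟨r, hr, rfl⟩ := hx
    rw [algebraMap_smul]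
    exact Submodule.smul_mem_smul hr Submodule.mem_top
  | zero => rw [zero_smul]; exact zero_mem _
  | add x y _ _ hx hy => rw [add_smul]; exact add_mem (hx n) (hy n)
  | smul a x _ hx =>
    rw [smul_eq_mul, mul_comm, mul_smul]
    exact hx (a • n)

/-- If `1 - b` is injective on `N ⊗ M` for all `b ∈ I S`, then `q ⊔ I S ≠ ⊤` for annihilator primes. -/
theorem sup_map_ne_top_of_injective (I : Ideal R) (M : Type u) [AddCommGroup M] [Module R M]
    {q : Ideal S} (hq : q.IsPrime) (x : N ⊗[R] M) (hqx : q = (Submodule.span S {x}).annihilator)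
    (hinj : ∀ b ∈ I.map (algebraMap R S),
      Function.Injective (((LinearMap.id : N →ₗ[R] N) - DistribSMul.toLinearMap R N b).rTensor M)) :
    q ⊔ I.map (algebraMap R S) ≠ ⊤ := by
  intro htop
  obtain ⟨a, ha, b, hb, hab⟩ := Submodule.mem_sup.1 ((Ideal.eq_top_iff_one _).1 htop)
  rw [hqx, Submodule.mem_annihilator_span_singleton] at ha
  have hbx : b • x = x := by
    conv_rhs => rw [← one_smul S x, ← hab, add_smul, ha, zero_add]
  have hcalc : ∀ y : N ⊗[R] M,
      ((LinearMap.id : N →ₗ[R] N) - DistribSMul.toLinearMap R N b).rTensor M y = y - b • y := by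
    intro y
    induction y using TensorProduct.induction_on with
    | zero => simp
    | tmul n m => simp [TensorProduct.smul_tmul', TensorProduct.sub_tmul]
    | add y z hy hz => rw [map_add, hy, hz, smul_add]; abel
  have hx0 : x = 0 := hinj b hb (by rw [hcalc, hbx, sub_self, map_zero])
  apply hq.ne_top
  rw [hqx, hx0, Submodule.span_zero_singleton, Submodule.annihilator_bot]

/-- On an `I`-adically complete module, `1 - b` is bijective for `b ∈ I S`. -/
theorem bijective_one_sub_of_isAdicComplete (I : Ideal R) [IsAdicComplete I N] {b : S}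
    (hb : b ∈ I.map (algebraMap R S)) :
    Function.Bijective ((LinearMap.id : N →ₗ[R] N) - DistribSMul.toLinearMap R N b) := by
  have hk : ∀ (k : ℕ) (n : N), b ^ k • n ∈ I ^ k • (⊤ : Submodule R N) := fun k n => by
    refine smul_mem_of_mem_map ?_ n
    rw [Ideal.map_pow]
    exact Ideal.pow_mem_pow hb k
  have happ : ∀ n, ((LinearMap.id : N →ₗ[R] N) - DistribSMul.toLinearMap R N b) n = n - b • n :=
    fun n => rfl
  constructor
  · rw [injective_iff_map_eq_zero]
    intro n hn
    rw [happ, sub_eq_zero] at hn
    have : ∀ k : ℕ, b ^ k • n = n := fun k => by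
      induction k with
      | zero => simp
      | succ k ih => rw [pow_succ, mul_smul, ← hn, ih]
    exact IsHausdorff.haus (I := I) (M := N) inferInstance n fun k => by
      rw [SModEq.zero, ← this k]; exact hk k n
  · intro m
    let s : ℕ → N := fun k => ∑ i ∈ Finset.range k, b ^ i • m
    obtain ⟨L, hL⟩ := IsPrecomplete.prec (I := I) (M := N) inferInstance (f := s) fun {k l} hkl => by
      rw [SModEq.sub_mem, ← neg_sub, Submodule.neg_mem_iff]
      simp only [s]
      rw [← Finset.sum_Ico_eq_sub _ hkl]
      exact Submodule.sum_mem _ fun i hi =>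
        Submodule.smul_mono_left (Ideal.pow_le_pow_right (Finset.mem_Ico.1 hi).1) (hk i m)
    refine ⟨L, ?_⟩
    rw [← sub_eq_zero]
    refine IsHausdorff.haus (I := I) (M := N) inferInstance _ fun k => ?_
    rw [SModEq.zero, happ]
    have h1 : s k - b • s k = m - b ^ k • m := by
      simp only [s, Finset.smul_sum, smul_smul, ← pow_succ']
      rw [← Finset.sum_sub_distrib]
      have := Finset.sum_range_sub' (fun i => b ^ i • m) k
      simpa using this
    have h2 : L - b • L - m = (L - s k) - b • (L - s k) - b ^ k • m := by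
      rw [smul_sub]
      calc L - b • L - m = (L - b • L) - (s k - b • s k) - b ^ k • m := by rw [h1]; abel
        _ = _ := by abel
    rw [h2]
    have h3 : L - s k ∈ I ^ k • (⊤ : Submodule R N) := by
      rw [← neg_sub, Submodule.neg_mem_iff, ← SModEq.sub_mem]; exact hL k
    refine sub_mem (sub_mem h3 ?_) (hk k m)
    have h4 := Submodule.mem_map_of_mem (f := DistribSMul.toLinearMap R N b) h3
    rw [Submodule.map_smul''] at h4
    exact Submodule.smul_mono le_rfl le_top h4

end Groth.Agent.FlatCrit
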