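import Mathlib.RingTheory.Flat.Basic
import Mathlib.RingTheory.Flat.Stability
import Mathlib.RingTheory.Filtration
import Mathlib.LinearAlgebra.TensorProduct.Quotient
import Mathlib.RingTheory.TensorProduct.Finite
import Mathlib.RingTheory.Flat.Localization
import Mathlib.RingTheory.Localization.Away.Basic
import Mathlib.RingTheory.Localization.BaseChange
import Mathlib.RingTheory.LocalRing.Module
import Mathlib.Algebra.Module.Torsion.Basic

/-!
# Local criteria of flatness without Tor (module in an arbitrary universe)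

`TorVanish R M N` says that `Tor₁ N M = 0`, phrased through short exact sequences ending in `N`.
`QuotFlat R M I` says that `A ⊗ M → B ⊗ M` is injective for injective maps of modules killed by `I`,
which is flatness of `M/IM` over `R/I`.
-/

universe u v

namespace Groth.Agent.FlatCritUniv

open TensorProduct Function

variable (R : Type u) [CommRing R] (M : Type v) [AddCommGroup M] [Module R M]

/-- `Tor₁ N M = 0`. -/
def TorVanish (N : Type u) [AddCommGroup N] [Module R N] : Prop :=
  ∀ ⦃A B : Type u⦄ [AddCommGroup A] [AddCommGroup B] [Module R A] [Module R B]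
    (i : A →ₗ[R] B) (p : B →ₗ[R] N),
    Exact i p → Surjective p → Injective i → Injective (i.rTensor M)

/-- `M/IM` is flat over `R/I`. -/
def QuotFlat (I : Ideal R) : Prop :=
  ∀ ⦃A B : Type u⦄ [AddCommGroup A] [AddCommGroup B] [Module R A] [Module R B]
    (i : A →ₗ[R] B), (∀ r ∈ I, ∀ b : B, r • b = 0) → Injective i → Injective (i.rTensor M)

variable {R M}

theorem torVanish_of_projective {N : Type u} [AddCommGroup N] [Module R N] [Module.Projective R N] :
    TorVanish R M N := by
  intro A B _ _ _ _ i p hex hp hi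
  obtain ⟨s, hs⟩ := Module.projective_lifting_property p LinearMap.id hp
  have := (Exact.split_tfae hex hi hp).out 0 1
  obtain ⟨l, hl⟩ := this.mp ⟨s, hs⟩
  refine HasLeftInverse.injective ⟨l.rTensor M, fun x => ?_⟩
  rw [← LinearMap.comp_apply, ← LinearMap.rTensor_comp, hl, LinearMap.rTensor_id, LinearMap.id_apply]

theorem TorVanish.of_presentation {K F N : Type u} [AddCommGroup K] [AddCommGroup F] [AddCommGroup N]
    [Module R K] [Module R F] [Module R N] (f : K →ₗ[R] F) (g : F →ₗ[R] N)
    (hex : Exact f g) (hg : Surjective g) (hF : TorVanish R M F) (hf : Injective (f.rTensor M)) :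
    TorVanish R M N := by
  intro A B _ _ _ _ i p hip hp hi
  -- the fibre product
  let C : Submodule R (B × F) := LinearMap.eqLocus (p ∘ₗ LinearMap.fst R B F) (g ∘ₗ LinearMap.snd R B F)
  let prB : C →ₗ[R] B := LinearMap.fst R B F ∘ₗ C.subtype
  let prF : C →ₗ[R] F := LinearMap.snd R B F ∘ₗ C.subtype
  let jA : A →ₗ[R] C := (LinearMap.inl R B F ∘ₗ i).codRestrict C
    (fun a => by simp [C, hip.apply_apply_eq_zero a])
  let jK : K →ₗ[R] C := (LinearMap.inr R B F ∘ₗ f).codRestrict C
    (fun k => by simp [C, hex.apply_apply_eq_zero k])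
  have hjA : Injective (jA.rTensor M) := by
    refine hF jA prF ?_ ?_ ?_
    · rw [LinearMap.exact_iff]
      ext ⟨⟨b, x⟩, hbx⟩
      constructor
      · intro h
        have h' : x = 0 := h
        have hb : p b = 0 := by
          have : p b = g x := hbx
          simpa [h'] using this
        obtain ⟨a, rfl⟩ := (hip b).mp hb
        exact ⟨a, Subtype.ext (Prod.ext rfl h'.symm)⟩
      · rintro ⟨a, ha⟩
        rw [← ha]
        rfl
    · intro x
      obtain ⟨b, hb⟩ := hp (g x)
      exact ⟨⟨(b, x), hb⟩, rfl⟩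
    · intro a a' h
      exact hi (congrArg Prod.fst (congrArg Subtype.val h))
  have hCB : Exact jK prB := by
    rw [LinearMap.exact_iff]
    ext ⟨⟨b, x⟩, hbx⟩
    constructor
    · intro h
      have h' : b = 0 := h
      have hb : g x = 0 := by
        have : p b = g x := hbx
        simpa [h'] using this.symm
      obtain ⟨k, rfl⟩ := (hex x).mp hb
      exact ⟨k, Subtype.ext (Prod.ext h'.symm rfl)⟩
    · rintro ⟨k, hk⟩
      rw [← hk]
      rfl
  have hprB : Surjective prB := fun b => by
    obtain ⟨x, hx⟩ := hg (p b)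
    exact ⟨⟨(b, x), hx.symm⟩, rfl⟩
  rw [injective_iff_map_eq_zero]
  intro a ha
  have hi' : prB ∘ₗ jA = i := rfl
  have h0 : prB.rTensor M (jA.rTensor M a) = 0 := by
    rw [← LinearMap.comp_apply, ← LinearMap.rTensor_comp, hi', ha]
  obtain ⟨k, hk⟩ := (rTensor_exact M hCB hprB _).mp h0
  have hk0 : f.rTensor M k = 0 := by
    have e1 : prF ∘ₗ jK = f := rfl
    have e2 : prF ∘ₗ jA = 0 := rfl
    rw [← e1, LinearMap.rTensor_comp, LinearMap.comp_apply, hk, ← LinearMap.comp_apply,
      ← LinearMap.rTensor_comp, e2, LinearMap.rTensor_zero, LinearMap.zero_apply]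
  have hk' : k = 0 := (injective_iff_map_eq_zero _).mp hf k hk0
  apply (injective_iff_map_eq_zero _).mp hjA
  rw [← hk, hk', map_zero]

theorem TorVanish.extension {N : Type u} [AddCommGroup N] [Module R N] (N' : Submodule R N)
    (h' : TorVanish R M N') (h'' : TorVanish R M (N ⧸ N')) : TorVanish R M N := by
  intro A B _ _ _ _ i p hip hp hi
  let B' := N'.comap p
  let i' : A →ₗ[R] B' := i.codRestrict B' (fun a => by simp [B', hip.apply_apply_eq_zero a])
  let p' : B' →ₗ[R] N' := (p ∘ₗ B'.subtype).codRestrict N' (fun b => b.2)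
  have h1 : Injective (i'.rTensor M) := by
    refine h' i' p' ?_ ?_ ?_
    · rw [LinearMap.exact_iff]
      ext ⟨b, hb⟩
      constructor
      · intro h
        obtain ⟨a, rfl⟩ := (hip b).mp (congrArg Subtype.val h)
        exact ⟨a, rfl⟩
      · rintro ⟨a, ha⟩
        rw [← ha]
        exact Subtype.ext (hip.apply_apply_eq_zero a)
    · rintro ⟨n, hn⟩
      obtain ⟨b, rfl⟩ := hp n
      exact ⟨⟨b, hn⟩, rfl⟩
    · intro a a' h
      exact hi (congrArg Subtype.val h)
  have h2 : Injective (B'.subtype.rTensor M) := by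
    refine h'' B'.subtype (N'.mkQ ∘ₗ p) ?_ ((Submodule.mkQ_surjective N').comp hp) Subtype.val_injective
    rw [LinearMap.exact_iff, LinearMap.ker_comp, Submodule.ker_mkQ, Submodule.range_subtype]
  have : i = B'.subtype ∘ₗ i' := rfl
  rw [this, LinearMap.rTensor_comp]
  exact h2.comp h1

theorem TorVanish.of_linearEquiv {N N' : Type u} [AddCommGroup N] [AddCommGroup N'] [Module R N]
    [Module R N'] (h : TorVanish R M N) (e : N ≃ₗ[R] N') : TorVanish R M N' :=
  fun A B _ _ _ _ i p hip hp hi => h i (e.symm.toLinearMap ∘ₗ p)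
    (fun b => by simp [← hip b]) (e.symm.surjective.comp hp) hi

/-- Transfer between `A ⊗_R M` and `A ⊗_{R/I} (M/IM)`. -/
theorem quotFlat_of_flat (I : Ideal R) (h : Module.Flat (R ⧸ I) ((R ⧸ I) ⊗[R] M)) :
    QuotFlat R M I := by
  intro A B _ _ _ _ i hB hi
  have hA : ∀ r ∈ I, ∀ a : A, r • a = 0 := fun r hr a => hi (by rw [map_smul, map_zero, hB r hr])
  have tA : Module.IsTorsionBySet R A I := fun a r => hA r r.2 a
  have tB : Module.IsTorsionBySet R B I := fun a r => hB r r.2 a
  letI := tA.module
  letI := tB.module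
  haveI : IsScalarTower R (R ⧸ I) A := tA.isScalarTower
  haveI : IsScalarTower R (R ⧸ I) B := tB.isScalarTower
  let i' : A →ₗ[R ⧸ I] B :=
    { i with
      map_smul' := fun c a => by
        obtain ⟨c, rfl⟩ := Ideal.Quotient.mk_surjective c
        exact map_smul i c a }
  let eA := AlgebraTensorModule.cancelBaseChange R (R ⧸ I) (R ⧸ I) A M
  let eB := AlgebraTensorModule.cancelBaseChange R (R ⧸ I) (R ⧸ I) B M
  have hcomm : ∀ x, i.rTensor M (eA x) = eB (i'.rTensor _ x) := by
    intro x
    induction x with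
    | zero => simp
    | add x y hx hy => simp [hx, hy]
    | tmul a y =>
      induction y with
      | zero => simp
      | add x y hx hy => simp [tmul_add, hx, hy]
      | tmul c m =>
        simp only [eA, eB, AlgebraTensorModule.cancelBaseChange_tmul, LinearMap.rTensor_tmul]
        rw [← map_smul i']
        rfl
  have hinj : Injective (i'.rTensor ((R ⧸ I) ⊗[R] M)) :=
    Module.Flat.rTensor_preserves_injective_linearMap i' hi
  intro x y hxy
  obtain ⟨x, rfl⟩ := eA.surjective x
  obtain ⟨y, rfl⟩ := eA.surjective y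
  rw [hcomm, hcomm] at hxy
  exact congrArg eA (hinj (eB.injective hxy))

theorem quotFlat_of_field (I : Ideal R) [I.IsMaximal] : QuotFlat R M I := by
  letI := Ideal.Quotient.field I
  exact quotFlat_of_flat I inferInstance

theorem quotFlat_of_module_flat (I : Ideal R) [Module.Flat R M] : QuotFlat R M I :=
  fun _ _ _ _ _ _ i _ hi => Module.Flat.rTensor_preserves_injective_linearMap i hi

section Kill

variable {I : Ideal R} (h1 : Injective (I.subtype.rTensor M)) (h2 : QuotFlat R M I)
include h1 h2

theorem torVanish_quot_tensor {F₀ : Type u} [AddCommGroup F₀] [Module R F₀] [Module.Projective R F₀] :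
    TorVanish R M ((R ⧸ I) ⊗[R] F₀) := by
  refine TorVanish.of_presentation (I.subtype.rTensor F₀) ((Submodule.mkQ I).rTensor F₀)
    (rTensor_exact F₀ (LinearMap.exact_subtype_mkQ I) (Submodule.mkQ_surjective I))
    (LinearMap.rTensor_surjective F₀ (Submodule.mkQ_surjective I)) torVanish_of_projective ?_
  let e₁ := TensorProduct.rightComm R I F₀ M
  let e₂ := TensorProduct.rightComm R R F₀ M
  have hc : ∀ x, e₂ ((I.subtype.rTensor F₀).rTensor M x) = (I.subtype.rTensor M).rTensor F₀ (e₁ x) := by
    intro x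
    induction x with
    | zero => simp
    | add x y hx hy => rw [map_add, map_add, map_add, map_add, hx, hy]
    | tmul a m =>
      induction a with
      | zero => simp
      | add x y hx hy => rw [add_tmul, map_add, map_add, map_add, map_add, hx, hy]
      | tmul c z => simp [e₁, e₂]
  have := Module.Flat.rTensor_preserves_injective_linearMap (M := F₀) _ h1
  intro x y hxy
  apply e₁.injective
  apply this
  rw [← hc, ← hc, hxy]

theorem torVanish_of_killed_aux {N F₀ : Type u} [AddCommGroup N] [Module R N] [AddCommGroup F₀]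
    [Module R F₀] [Module.Projective R F₀] (π : F₀ →ₗ[R] N) (hπ : Surjective π)
    (hN : ∀ r ∈ I, ∀ x : N, r • x = 0) : TorVanish R M N := by
  have hI : I ≤ LinearMap.ker ((LinearMap.lsmul R N).compl₂ π) :=
    fun r hr => LinearMap.ext fun z => hN r hr (π z)
  let g : (R ⧸ I) ⊗[R] F₀ →ₗ[R] N :=
    TensorProduct.lift (Submodule.liftQ I ((LinearMap.lsmul R N).compl₂ π) hI)
  have hg : Surjective g := fun x => by
    obtain ⟨z, rfl⟩ := hπ x
    refine ⟨(Submodule.Quotient.mk (1 : R) : R ⧸ I) ⊗ₜ[R] z, ?_⟩
    simp only [g, lift.tmul, Submodule.liftQ_apply]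
    simp
  have hkill : ∀ r ∈ I, ∀ b : (R ⧸ I) ⊗[R] F₀, r • b = 0 := by
    intro r hr b
    induction b with
    | zero => exact smul_zero r
    | add x y hx hy => rw [smul_add, hx, hy, add_zero]
    | tmul c z =>
      obtain ⟨c, rfl⟩ := Submodule.Quotient.mk_surjective I c
      rw [smul_tmul', ← Submodule.Quotient.mk_smul, smul_eq_mul,
        (Submodule.Quotient.mk_eq_zero I).mpr (I.mul_mem_right c hr), zero_tmul]
  have hF : TorVanish R M ((R ⧸ I) ⊗[R] F₀) := torVanish_quot_tensor h1 h2
  have hi := @h2 (LinearMap.ker g) ((R ⧸ I) ⊗[R] F₀) _ _ _ _ (LinearMap.ker g).subtype hkill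
    Subtype.val_injective
  exact @TorVanish.of_presentation R _ M _ _ (LinearMap.ker g) ((R ⧸ I) ⊗[R] F₀) N _ _ _ _ _ _
    (LinearMap.ker g).subtype g (LinearMap.exact_subtype_ker_map g) hg hF hi

theorem torVanish_of_killed {N : Type u} [AddCommGroup N] [Module R N]
    (hN : ∀ r ∈ I, ∀ x : N, r • x = 0) : TorVanish R M N :=
  torVanish_of_killed_aux h1 h2 (Finsupp.linearCombination R id : (N →₀ R) →ₗ[R] N)
    (fun n => ⟨Finsupp.single n 1, by rw [Finsupp.linearCombination_single, one_smul, id_eq]⟩) hN

theorem torVanish_of_killed_pow (n : ℕ) : ∀ {N : Type u} [AddCommGroup N] [Module R N],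
    (∀ r ∈ I ^ n, ∀ x : N, r • x = 0) → TorVanish R M N := by
  induction n with
  | zero =>
    intro N _ _ hN
    have : Subsingleton N := ⟨fun x y => by
      rw [← one_smul R x, hN 1 (by simp), ← one_smul R y, hN 1 (by simp)]⟩
    exact torVanish_of_projective
  | succ n ih =>
    intro N _ _ hN
    refine TorVanish.extension (I • ⊤) (ih ?_) (torVanish_of_killed h1 h2 ?_)
    · rintro r hr ⟨x, hx⟩
      apply Subtype.ext
      show r • x = 0
      refine Submodule.smul_induction_on hx (fun a ha y _ => ?_) (fun a b ha hb => ?_)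
      · rw [smul_smul]
        exact hN _ (by rw [pow_succ]; exact Ideal.mul_mem_mul hr ha) y
      · rw [smul_add, ha, hb, add_zero]
    · intro r hr x
      obtain ⟨x, rfl⟩ := Submodule.Quotient.mk_surjective _ x
      rw [← Submodule.Quotient.mk_smul, Submodule.Quotient.mk_eq_zero]
      exact Submodule.smul_mem_smul hr trivial

/-- Injective maps with cokernel killed by a power of `I` stay injective. -/
theorem rTensor_injective_of_coker_killed {A B : Type u} [AddCommGroup A] [AddCommGroup B]
    [Module R A] [Module R B] (i : A →ₗ[R] B) (hi : Injective i) (n : ℕ)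
    (hk : ∀ r ∈ I ^ n, ∀ b : B, r • b ∈ LinearMap.range i) : Injective (i.rTensor M) := by
  refine torVanish_of_killed_pow h1 h2 n (N := B ⧸ LinearMap.range i) ?_ i (LinearMap.range i).mkQ
    (LinearMap.exact_map_mkQ_range i) (Submodule.mkQ_surjective _) hi
  intro r hr x
  obtain ⟨x, rfl⟩ := Submodule.Quotient.mk_surjective _ x
  rw [← Submodule.Quotient.mk_smul, Submodule.Quotient.mk_eq_zero]
  exact hk r hr x

theorem quotFlat_pow (n : ℕ) : QuotFlat R M (I ^ n) :=
  fun _ _ _ _ _ _ i hB hi => rTensor_injective_of_coker_killed h1 h2 i hi n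
    (fun r hr b => by simp [hB r hr b])

/-- Flatness over `R` when `I` is nilpotent. -/
theorem flat_of_isNilpotent (hI : IsNilpotent I) : Module.Flat R M := by
  obtain ⟨n, hn⟩ := hI
  rw [Module.Flat.iff_rTensor_injective]
  intro J _
  refine rTensor_injective_of_coker_killed h1 h2 (Submodule.subtype J) Subtype.val_injective n fun r hr b => ?_
  rw [hn] at hr
  simp [(Ideal.mem_bot).mp hr]

end Kill

end Groth.Agent.FlatCritUniv
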